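import Cfsg.Agent.Lib.Helper35.SuzOrd.X1.Data

set_option Elab.async false

namespace Cfsg.Agent.Lib.Helper35.SuzOrd.X1

open Cfsg.Agent.Lib.Helper35

theorem q2c0 : allBelow (fun k => fq2 (Nat.add 0 k)) 20188 = true := by decide +kernel
theorem q2u0 : ∀ i, i < 20188 → fq2 i = true := below_step fq2 0 20188 20188 (below_zero fq2) q2c0 rfl
theorem q2c1 : allBelow (fun k => fq2 (Nat.add 20188 k)) 2692 = true := by decide +kernel
theorem q2u1 : ∀ i, i < 22880 → fq2 i = true := below_step fq2 20188 2692 22880 q2u0 q2c1 rfl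
theorem m2z : countBelow fm2 0 = 0 := rfl
theorem m2k0 : countBelow (fun k => fm2 (Nat.add 0 k)) 22880 = 280 := by decide +kernel
theorem m2n0 : countBelow fm2 22880 = 280 := countBelow_step fm2 0 22880 22880 0 280 280 m2z m2k0 rfl rfl
theorem q3c0 : allBelow (fun k => fq3 (Nat.add 0 k)) 11072 = true := by decide +kernel
theorem q3u0 : ∀ i, i < 11072 → fq3 i = true := below_step fq3 0 11072 11072 (below_zero fq3) q3c0 rfl
theorem q3c1 : allBelow (fun k => fq3 (Nat.add 11072 k)) 11808 = true := by decide +kernel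
theorem q3u1 : ∀ i, i < 22880 → fq3 i = true := below_step fq3 11072 11808 22880 q3u0 q3c1 rfl
theorem m3z : countBelow fm3 0 = 0 := rfl
theorem m3k0 : countBelow (fun k => fm3 (Nat.add 0 k)) 22880 = 2160 := by decide +kernel
theorem m3n0 : countBelow fm3 22880 = 2160 := countBelow_step fm3 0 22880 22880 0 2160 2160 m3z m3k0 rfl rfl
theorem y0c0 : allBelow (fun k => fy0 (Nat.add 0 k)) 298 = true := by decide +kernel
theorem y0u0 : ∀ i, i < 298 → fy0 i = true := below_step fy0 0 298 298 (below_zero fy0) y0c0 rfl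
theorem y0c1 : allBelow (fun k => fy0 (Nat.add 298 k)) 298 = true := by decide +kernel
theorem y0u1 : ∀ i, i < 596 → fy0 i = true := below_step fy0 298 298 596 y0u0 y0c1 rfl
theorem y0c2 : allBelow (fun k => fy0 (Nat.add 596 k)) 298 = true := by decide +kernel
theorem y0u2 : ∀ i, i < 894 → fy0 i = true := below_step fy0 596 298 894 y0u1 y0c2 rfl
theorem y0c3 : allBelow (fun k => fy0 (Nat.add 894 k)) 298 = true := by decide +kernel
theorem y0u3 : ∀ i, i < 1192 → fy0 i = true := below_step fy0 894 298 1192 y0u2 y0c3 rfl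
theorem y0c4 : allBelow (fun k => fy0 (Nat.add 1192 k)) 298 = true := by decide +kernel
theorem y0u4 : ∀ i, i < 1490 → fy0 i = true := below_step fy0 1192 298 1490 y0u3 y0c4 rfl
theorem y0c5 : allBelow (fun k => fy0 (Nat.add 1490 k)) 298 = true := by decide +kernel
theorem y0u5 : ∀ i, i < 1788 → fy0 i = true := below_step fy0 1490 298 1788 y0u4 y0c5 rfl
theorem y0c6 : allBelow (fun k => fy0 (Nat.add 1788 k)) 298 = true := by decide +kernel
theorem y0u6 : ∀ i, i < 2086 → fy0 i = true := below_step fy0 1788 298 2086 y0u5 y0c6 rfl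
theorem y0c7 : allBelow (fun k => fy0 (Nat.add 2086 k)) 298 = true := by decide +kernel
theorem y0u7 : ∀ i, i < 2384 → fy0 i = true := below_step fy0 2086 298 2384 y0u6 y0c7 rfl
theorem y0c8 : allBelow (fun k => fy0 (Nat.add 2384 k)) 298 = true := by decide +kernel
theorem y0u8 : ∀ i, i < 2682 → fy0 i = true := below_step fy0 2384 298 2682 y0u7 y0c8 rfl
theorem y0c9 : allBelow (fun k => fy0 (Nat.add 2682 k)) 298 = true := by decide +kernel
theorem y0u9 : ∀ i, i < 2980 → fy0 i = true := below_step fy0 2682 298 2980 y0u8 y0c9 rfl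
theorem y0c10 : allBelow (fun k => fy0 (Nat.add 2980 k)) 298 = true := by decide +kernel
theorem y0u10 : ∀ i, i < 3278 → fy0 i = true := below_step fy0 2980 298 3278 y0u9 y0c10 rfl
theorem y0c11 : allBelow (fun k => fy0 (Nat.add 3278 k)) 298 = true := by decide +kernel
theorem y0u11 : ∀ i, i < 3576 → fy0 i = true := below_step fy0 3278 298 3576 y0u10 y0c11 rfl
theorem y0c12 : allBelow (fun k => fy0 (Nat.add 3576 k)) 298 = true := by decide +kernel
theorem y0u12 : ∀ i, i < 3874 → fy0 i = true := below_step fy0 3576 298 3874 y0u11 y0c12 rfl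
theorem y0c13 : allBelow (fun k => fy0 (Nat.add 3874 k)) 298 = true := by decide +kernel
theorem y0u13 : ∀ i, i < 4172 → fy0 i = true := below_step fy0 3874 298 4172 y0u12 y0c13 rfl
theorem y0c14 : allBelow (fun k => fy0 (Nat.add 4172 k)) 298 = true := by decide +kernel
theorem y0u14 : ∀ i, i < 4470 → fy0 i = true := below_step fy0 4172 298 4470 y0u13 y0c14 rfl
theorem y0c15 : allBelow (fun k => fy0 (Nat.add 4470 k)) 298 = true := by decide +kernel
theorem y0u15 : ∀ i, i < 4768 → fy0 i = true := below_step fy0 4470 298 4768 y0u14 y0c15 rfl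
theorem y0c16 : allBelow (fun k => fy0 (Nat.add 4768 k)) 298 = true := by decide +kernel
theorem y0u16 : ∀ i, i < 5066 → fy0 i = true := below_step fy0 4768 298 5066 y0u15 y0c16 rfl
theorem y0c17 : allBelow (fun k => fy0 (Nat.add 5066 k)) 298 = true := by decide +kernel
theorem y0u17 : ∀ i, i < 5364 → fy0 i = true := below_step fy0 5066 298 5364 y0u16 y0c17 rfl
theorem y0c18 : allBelow (fun k => fy0 (Nat.add 5364 k)) 298 = true := by decide +kernel
theorem y0u18 : ∀ i, i < 5662 → fy0 i = true := below_step fy0 5364 298 5662 y0u17 y0c18 rfl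
theorem y0c19 : allBelow (fun k => fy0 (Nat.add 5662 k)) 298 = true := by decide +kernel
theorem y0u19 : ∀ i, i < 5960 → fy0 i = true := below_step fy0 5662 298 5960 y0u18 y0c19 rfl
theorem y0c20 : allBelow (fun k => fy0 (Nat.add 5960 k)) 298 = true := by decide +kernel
theorem y0u20 : ∀ i, i < 6258 → fy0 i = true := below_step fy0 5960 298 6258 y0u19 y0c20 rfl
theorem y0c21 : allBelow (fun k => fy0 (Nat.add 6258 k)) 298 = true := by decide +kernel
theorem y0u21 : ∀ i, i < 6556 → fy0 i = true := below_step fy0 6258 298 6556 y0u20 y0c21 rfl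
theorem y0c22 : allBelow (fun k => fy0 (Nat.add 6556 k)) 298 = true := by decide +kernel
theorem y0u22 : ∀ i, i < 6854 → fy0 i = true := below_step fy0 6556 298 6854 y0u21 y0c22 rfl
theorem y0c23 : allBelow (fun k => fy0 (Nat.add 6854 k)) 298 = true := by decide +kernel
theorem y0u23 : ∀ i, i < 7152 → fy0 i = true := below_step fy0 6854 298 7152 y0u22 y0c23 rfl
theorem y0c24 : allBelow (fun k => fy0 (Nat.add 7152 k)) 298 = true := by decide +kernel
theorem y0u24 : ∀ i, i < 7450 → fy0 i = true := below_step fy0 7152 298 7450 y0u23 y0c24 rfl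
theorem y0c25 : allBelow (fun k => fy0 (Nat.add 7450 k)) 298 = true := by decide +kernel
theorem y0u25 : ∀ i, i < 7748 → fy0 i = true := below_step fy0 7450 298 7748 y0u24 y0c25 rfl
theorem y0c26 : allBelow (fun k => fy0 (Nat.add 7748 k)) 298 = true := by decide +kernel
theorem y0u26 : ∀ i, i < 8046 → fy0 i = true := below_step fy0 7748 298 8046 y0u25 y0c26 rfl
theorem y0c27 : allBelow (fun k => fy0 (Nat.add 8046 k)) 298 = true := by decide +kernel
theorem y0u27 : ∀ i, i < 8344 → fy0 i = true := below_step fy0 8046 298 8344 y0u26 y0c27 rfl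
theorem y0c28 : allBelow (fun k => fy0 (Nat.add 8344 k)) 298 = true := by decide +kernel
theorem y0u28 : ∀ i, i < 8642 → fy0 i = true := below_step fy0 8344 298 8642 y0u27 y0c28 rfl
theorem y0c29 : allBelow (fun k => fy0 (Nat.add 8642 k)) 298 = true := by decide +kernel
theorem y0u29 : ∀ i, i < 8940 → fy0 i = true := below_step fy0 8642 298 8940 y0u28 y0c29 rfl
theorem y0c30 : allBelow (fun k => fy0 (Nat.add 8940 k)) 298 = true := by decide +kernel
theorem y0u30 : ∀ i, i < 9238 → fy0 i = true := below_step fy0 8940 298 9238 y0u29 y0c30 rfl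
theorem y0c31 : allBelow (fun k => fy0 (Nat.add 9238 k)) 298 = true := by decide +kernel
theorem y0u31 : ∀ i, i < 9536 → fy0 i = true := below_step fy0 9238 298 9536 y0u30 y0c31 rfl
theorem y0c32 : allBelow (fun k => fy0 (Nat.add 9536 k)) 298 = true := by decide +kernel
theorem y0u32 : ∀ i, i < 9834 → fy0 i = true := below_step fy0 9536 298 9834 y0u31 y0c32 rfl
theorem y0c33 : allBelow (fun k => fy0 (Nat.add 9834 k)) 298 = true := by decide +kernel
theorem y0u33 : ∀ i, i < 10132 → fy0 i = true := below_step fy0 9834 298 10132 y0u32 y0c33 rfl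
theorem y0c34 : allBelow (fun k => fy0 (Nat.add 10132 k)) 298 = true := by decide +kernel
theorem y0u34 : ∀ i, i < 10430 → fy0 i = true := below_step fy0 10132 298 10430 y0u33 y0c34 rfl
theorem y0c35 : allBelow (fun k => fy0 (Nat.add 10430 k)) 298 = true := by decide +kernel
theorem y0u35 : ∀ i, i < 10728 → fy0 i = true := below_step fy0 10430 298 10728 y0u34 y0c35 rfl
theorem y0c36 : allBelow (fun k => fy0 (Nat.add 10728 k)) 298 = true := by decide +kernel
theorem y0u36 : ∀ i, i < 11026 → fy0 i = true := below_step fy0 10728 298 11026 y0u35 y0c36 rfl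
theorem y0c37 : allBelow (fun k => fy0 (Nat.add 11026 k)) 298 = true := by decide +kernel
theorem y0u37 : ∀ i, i < 11324 → fy0 i = true := below_step fy0 11026 298 11324 y0u36 y0c37 rfl
theorem y0c38 : allBelow (fun k => fy0 (Nat.add 11324 k)) 298 = true := by decide +kernel
theorem y0u38 : ∀ i, i < 11622 → fy0 i = true := below_step fy0 11324 298 11622 y0u37 y0c38 rfl
theorem y0c39 : allBelow (fun k => fy0 (Nat.add 11622 k)) 298 = true := by decide +kernel
theorem y0u39 : ∀ i, i < 11920 → fy0 i = true := below_step fy0 11622 298 11920 y0u38 y0c39 rfl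
theorem y0c40 : allBelow (fun k => fy0 (Nat.add 11920 k)) 298 = true := by decide +kernel
theorem y0u40 : ∀ i, i < 12218 → fy0 i = true := below_step fy0 11920 298 12218 y0u39 y0c40 rfl
theorem y0c41 : allBelow (fun k => fy0 (Nat.add 12218 k)) 298 = true := by decide +kernel
theorem y0u41 : ∀ i, i < 12516 → fy0 i = true := below_step fy0 12218 298 12516 y0u40 y0c41 rfl
theorem y0c42 : allBelow (fun k => fy0 (Nat.add 12516 k)) 298 = true := by decide +kernel
theorem y0u42 : ∀ i, i < 12814 → fy0 i = true := below_step fy0 12516 298 12814 y0u41 y0c42 rfl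
theorem y0c43 : allBelow (fun k => fy0 (Nat.add 12814 k)) 298 = true := by decide +kernel
theorem y0u43 : ∀ i, i < 13112 → fy0 i = true := below_step fy0 12814 298 13112 y0u42 y0c43 rfl
theorem y0c44 : allBelow (fun k => fy0 (Nat.add 13112 k)) 298 = true := by decide +kernel
theorem y0u44 : ∀ i, i < 13410 → fy0 i = true := below_step fy0 13112 298 13410 y0u43 y0c44 rfl
theorem y0c45 : allBelow (fun k => fy0 (Nat.add 13410 k)) 298 = true := by decide +kernel
theorem y0u45 : ∀ i, i < 13708 → fy0 i = true := below_step fy0 13410 298 13708 y0u44 y0c45 rfl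
theorem y0c46 : allBelow (fun k => fy0 (Nat.add 13708 k)) 298 = true := by decide +kernel
theorem y0u46 : ∀ i, i < 14006 → fy0 i = true := below_step fy0 13708 298 14006 y0u45 y0c46 rfl
theorem y0c47 : allBelow (fun k => fy0 (Nat.add 14006 k)) 298 = true := by decide +kernel
theorem y0u47 : ∀ i, i < 14304 → fy0 i = true := below_step fy0 14006 298 14304 y0u46 y0c47 rfl
theorem y0c48 : allBelow (fun k => fy0 (Nat.add 14304 k)) 298 = true := by decide +kernel
theorem y0u48 : ∀ i, i < 14602 → fy0 i = true := below_step fy0 14304 298 14602 y0u47 y0c48 rfl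
theorem y0c49 : allBelow (fun k => fy0 (Nat.add 14602 k)) 298 = true := by decide +kernel
theorem y0u49 : ∀ i, i < 14900 → fy0 i = true := below_step fy0 14602 298 14900 y0u48 y0c49 rfl
theorem y0c50 : allBelow (fun k => fy0 (Nat.add 14900 k)) 298 = true := by decide +kernel
theorem y0u50 : ∀ i, i < 15198 → fy0 i = true := below_step fy0 14900 298 15198 y0u49 y0c50 rfl
theorem y0c51 : allBelow (fun k => fy0 (Nat.add 15198 k)) 298 = true := by decide +kernel
theorem y0u51 : ∀ i, i < 15496 → fy0 i = true := below_step fy0 15198 298 15496 y0u50 y0c51 rfl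
theorem y0c52 : allBelow (fun k => fy0 (Nat.add 15496 k)) 298 = true := by decide +kernel
theorem y0u52 : ∀ i, i < 15794 → fy0 i = true := below_step fy0 15496 298 15794 y0u51 y0c52 rfl
theorem y0c53 : allBelow (fun k => fy0 (Nat.add 15794 k)) 298 = true := by decide +kernel
theorem y0u53 : ∀ i, i < 16092 → fy0 i = true := below_step fy0 15794 298 16092 y0u52 y0c53 rfl
theorem y0c54 : allBelow (fun k => fy0 (Nat.add 16092 k)) 298 = true := by decide +kernel
theorem y0u54 : ∀ i, i < 16390 → fy0 i = true := below_step fy0 16092 298 16390 y0u53 y0c54 rfl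
theorem y0c55 : allBelow (fun k => fy0 (Nat.add 16390 k)) 298 = true := by decide +kernel
theorem y0u55 : ∀ i, i < 16688 → fy0 i = true := below_step fy0 16390 298 16688 y0u54 y0c55 rfl
theorem y0c56 : allBelow (fun k => fy0 (Nat.add 16688 k)) 298 = true := by decide +kernel
theorem y0u56 : ∀ i, i < 16986 → fy0 i = true := below_step fy0 16688 298 16986 y0u55 y0c56 rfl
theorem y0c57 : allBelow (fun k => fy0 (Nat.add 16986 k)) 298 = true := by decide +kernel
theorem y0u57 : ∀ i, i < 17284 → fy0 i = true := below_step fy0 16986 298 17284 y0u56 y0c57 rfl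
theorem y0c58 : allBelow (fun k => fy0 (Nat.add 17284 k)) 298 = true := by decide +kernel
theorem y0u58 : ∀ i, i < 17582 → fy0 i = true := below_step fy0 17284 298 17582 y0u57 y0c58 rfl
theorem y0c59 : allBelow (fun k => fy0 (Nat.add 17582 k)) 298 = true := by decide +kernel
theorem y0u59 : ∀ i, i < 17880 → fy0 i = true := below_step fy0 17582 298 17880 y0u58 y0c59 rfl
theorem y0c60 : allBelow (fun k => fy0 (Nat.add 17880 k)) 298 = true := by decide +kernel
theorem y0u60 : ∀ i, i < 18178 → fy0 i = true := below_step fy0 17880 298 18178 y0u59 y0c60 rfl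
theorem y0c61 : allBelow (fun k => fy0 (Nat.add 18178 k)) 298 = true := by decide +kernel
theorem y0u61 : ∀ i, i < 18476 → fy0 i = true := below_step fy0 18178 298 18476 y0u60 y0c61 rfl
theorem y0c62 : allBelow (fun k => fy0 (Nat.add 18476 k)) 298 = true := by decide +kernel
theorem y0u62 : ∀ i, i < 18774 → fy0 i = true := below_step fy0 18476 298 18774 y0u61 y0c62 rfl
theorem y0c63 : allBelow (fun k => fy0 (Nat.add 18774 k)) 298 = true := by decide +kernel
theorem y0u63 : ∀ i, i < 19072 → fy0 i = true := below_step fy0 18774 298 19072 y0u62 y0c63 rfl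
theorem y0c64 : allBelow (fun k => fy0 (Nat.add 19072 k)) 298 = true := by decide +kernel
theorem y0u64 : ∀ i, i < 19370 → fy0 i = true := below_step fy0 19072 298 19370 y0u63 y0c64 rfl
theorem y0c65 : allBelow (fun k => fy0 (Nat.add 19370 k)) 298 = true := by decide +kernel
theorem y0u65 : ∀ i, i < 19668 → fy0 i = true := below_step fy0 19370 298 19668 y0u64 y0c65 rfl
theorem y0c66 : allBelow (fun k => fy0 (Nat.add 19668 k)) 298 = true := by decide +kernel
theorem y0u66 : ∀ i, i < 19966 → fy0 i = true := below_step fy0 19668 298 19966 y0u65 y0c66 rfl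
theorem y0c67 : allBelow (fun k => fy0 (Nat.add 19966 k)) 298 = true := by decide +kernel
theorem y0u67 : ∀ i, i < 20264 → fy0 i = true := below_step fy0 19966 298 20264 y0u66 y0c67 rfl
theorem y0c68 : allBelow (fun k => fy0 (Nat.add 20264 k)) 298 = true := by decide +kernel
theorem y0u68 : ∀ i, i < 20562 → fy0 i = true := below_step fy0 20264 298 20562 y0u67 y0c68 rfl
theorem y0c69 : allBelow (fun k => fy0 (Nat.add 20562 k)) 298 = true := by decide +kernel
theorem y0u69 : ∀ i, i < 20860 → fy0 i = true := below_step fy0 20562 298 20860 y0u68 y0c69 rfl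
theorem y0c70 : allBelow (fun k => fy0 (Nat.add 20860 k)) 298 = true := by decide +kernel
theorem y0u70 : ∀ i, i < 21158 → fy0 i = true := below_step fy0 20860 298 21158 y0u69 y0c70 rfl
theorem y0c71 : allBelow (fun k => fy0 (Nat.add 21158 k)) 298 = true := by decide +kernel
theorem y0u71 : ∀ i, i < 21456 → fy0 i = true := below_step fy0 21158 298 21456 y0u70 y0c71 rfl
theorem y0c72 : allBelow (fun k => fy0 (Nat.add 21456 k)) 298 = true := by decide +kernel
theorem y0u72 : ∀ i, i < 21754 → fy0 i = true := below_step fy0 21456 298 21754 y0u71 y0c72 rfl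
theorem y0c73 : allBelow (fun k => fy0 (Nat.add 21754 k)) 298 = true := by decide +kernel
theorem y0u73 : ∀ i, i < 22052 → fy0 i = true := below_step fy0 21754 298 22052 y0u72 y0c73 rfl
theorem y0c74 : allBelow (fun k => fy0 (Nat.add 22052 k)) 298 = true := by decide +kernel
theorem y0u74 : ∀ i, i < 22350 → fy0 i = true := below_step fy0 22052 298 22350 y0u73 y0c74 rfl
theorem y0c75 : allBelow (fun k => fy0 (Nat.add 22350 k)) 298 = true := by decide +kernel
theorem y0u75 : ∀ i, i < 22648 → fy0 i = true := below_step fy0 22350 298 22648 y0u74 y0c75 rfl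
theorem y0c76 : allBelow (fun k => fy0 (Nat.add 22648 k)) 232 = true := by decide +kernel
theorem y0u76 : ∀ i, i < 22880 → fy0 i = true := below_step fy0 22648 232 22880 y0u75 y0c76 rfl
theorem oc0 : allBelow (fun k => fo (Nat.add 0 k)) 638 = true := by decide +kernel
theorem ou0 : ∀ i, i < 638 → fo i = true := below_step fo 0 638 638 (below_zero fo) oc0 rfl
theorem oc1 : allBelow (fun k => fo (Nat.add 638 k)) 638 = true := by decide +kernel
theorem ou1 : ∀ i, i < 1276 → fo i = true := below_step fo 638 638 1276 ou0 oc1 rfl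
theorem oc2 : allBelow (fun k => fo (Nat.add 1276 k)) 638 = true := by decide +kernel
theorem ou2 : ∀ i, i < 1914 → fo i = true := below_step fo 1276 638 1914 ou1 oc2 rfl
theorem oc3 : allBelow (fun k => fo (Nat.add 1914 k)) 638 = true := by decide +kernel
theorem ou3 : ∀ i, i < 2552 → fo i = true := below_step fo 1914 638 2552 ou2 oc3 rfl
theorem oc4 : allBelow (fun k => fo (Nat.add 2552 k)) 638 = true := by decide +kernel
theorem ou4 : ∀ i, i < 3190 → fo i = true := below_step fo 2552 638 3190 ou3 oc4 rfl
theorem oc5 : allBelow (fun k => fo (Nat.add 3190 k)) 638 = true := by decide +kernel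
theorem ou5 : ∀ i, i < 3828 → fo i = true := below_step fo 3190 638 3828 ou4 oc5 rfl
theorem oc6 : allBelow (fun k => fo (Nat.add 3828 k)) 638 = true := by decide +kernel
theorem ou6 : ∀ i, i < 4466 → fo i = true := below_step fo 3828 638 4466 ou5 oc6 rfl
theorem oc7 : allBelow (fun k => fo (Nat.add 4466 k)) 638 = true := by decide +kernel
theorem ou7 : ∀ i, i < 5104 → fo i = true := below_step fo 4466 638 5104 ou6 oc7 rfl
theorem oc8 : allBelow (fun k => fo (Nat.add 5104 k)) 638 = true := by decide +kernel
theorem ou8 : ∀ i, i < 5742 → fo i = true := below_step fo 5104 638 5742 ou7 oc8 rfl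
theorem oc9 : allBelow (fun k => fo (Nat.add 5742 k)) 638 = true := by decide +kernel
theorem ou9 : ∀ i, i < 6380 → fo i = true := below_step fo 5742 638 6380 ou8 oc9 rfl
theorem oc10 : allBelow (fun k => fo (Nat.add 6380 k)) 638 = true := by decide +kernel
theorem ou10 : ∀ i, i < 7018 → fo i = true := below_step fo 6380 638 7018 ou9 oc10 rfl
theorem oc11 : allBelow (fun k => fo (Nat.add 7018 k)) 638 = true := by decide +kernel
theorem ou11 : ∀ i, i < 7656 → fo i = true := below_step fo 7018 638 7656 ou10 oc11 rfl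
theorem oc12 : allBelow (fun k => fo (Nat.add 7656 k)) 638 = true := by decide +kernel
theorem ou12 : ∀ i, i < 8294 → fo i = true := below_step fo 7656 638 8294 ou11 oc12 rfl
theorem oc13 : allBelow (fun k => fo (Nat.add 8294 k)) 638 = true := by decide +kernel
theorem ou13 : ∀ i, i < 8932 → fo i = true := below_step fo 8294 638 8932 ou12 oc13 rfl
theorem oc14 : allBelow (fun k => fo (Nat.add 8932 k)) 638 = true := by decide +kernel
theorem ou14 : ∀ i, i < 9570 → fo i = true := below_step fo 8932 638 9570 ou13 oc14 rfl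
theorem oc15 : allBelow (fun k => fo (Nat.add 9570 k)) 638 = true := by decide +kernel
theorem ou15 : ∀ i, i < 10208 → fo i = true := below_step fo 9570 638 10208 ou14 oc15 rfl
theorem oc16 : allBelow (fun k => fo (Nat.add 10208 k)) 638 = true := by decide +kernel
theorem ou16 : ∀ i, i < 10846 → fo i = true := below_step fo 10208 638 10846 ou15 oc16 rfl
theorem oc17 : allBelow (fun k => fo (Nat.add 10846 k)) 638 = true := by decide +kernel
theorem ou17 : ∀ i, i < 11484 → fo i = true := below_step fo 10846 638 11484 ou16 oc17 rfl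
theorem oc18 : allBelow (fun k => fo (Nat.add 11484 k)) 638 = true := by decide +kernel
theorem ou18 : ∀ i, i < 12122 → fo i = true := below_step fo 11484 638 12122 ou17 oc18 rfl
theorem oc19 : allBelow (fun k => fo (Nat.add 12122 k)) 638 = true := by decide +kernel
theorem ou19 : ∀ i, i < 12760 → fo i = true := below_step fo 12122 638 12760 ou18 oc19 rfl
theorem oc20 : allBelow (fun k => fo (Nat.add 12760 k)) 638 = true := by decide +kernel
theorem ou20 : ∀ i, i < 13398 → fo i = true := below_step fo 12760 638 13398 ou19 oc20 rfl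
theorem oc21 : allBelow (fun k => fo (Nat.add 13398 k)) 638 = true := by decide +kernel
theorem ou21 : ∀ i, i < 14036 → fo i = true := below_step fo 13398 638 14036 ou20 oc21 rfl
theorem oc22 : allBelow (fun k => fo (Nat.add 14036 k)) 638 = true := by decide +kernel
theorem ou22 : ∀ i, i < 14674 → fo i = true := below_step fo 14036 638 14674 ou21 oc22 rfl
theorem oc23 : allBelow (fun k => fo (Nat.add 14674 k)) 638 = true := by decide +kernel
theorem ou23 : ∀ i, i < 15312 → fo i = true := below_step fo 14674 638 15312 ou22 oc23 rfl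
theorem oc24 : allBelow (fun k => fo (Nat.add 15312 k)) 638 = true := by decide +kernel
theorem ou24 : ∀ i, i < 15950 → fo i = true := below_step fo 15312 638 15950 ou23 oc24 rfl
theorem oc25 : allBelow (fun k => fo (Nat.add 15950 k)) 638 = true := by decide +kernel
theorem ou25 : ∀ i, i < 16588 → fo i = true := below_step fo 15950 638 16588 ou24 oc25 rfl
theorem oc26 : allBelow (fun k => fo (Nat.add 16588 k)) 638 = true := by decide +kernel
theorem ou26 : ∀ i, i < 17226 → fo i = true := below_step fo 16588 638 17226 ou25 oc26 rfl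
theorem oc27 : allBelow (fun k => fo (Nat.add 17226 k)) 638 = true := by decide +kernel
theorem ou27 : ∀ i, i < 17864 → fo i = true := below_step fo 17226 638 17864 ou26 oc27 rfl
theorem oc28 : allBelow (fun k => fo (Nat.add 17864 k)) 638 = true := by decide +kernel
theorem ou28 : ∀ i, i < 18502 → fo i = true := below_step fo 17864 638 18502 ou27 oc28 rfl
theorem oc29 : allBelow (fun k => fo (Nat.add 18502 k)) 638 = true := by decide +kernel
theorem ou29 : ∀ i, i < 19140 → fo i = true := below_step fo 18502 638 19140 ou28 oc29 rfl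
theorem oc30 : allBelow (fun k => fo (Nat.add 19140 k)) 638 = true := by decide +kernel
theorem ou30 : ∀ i, i < 19778 → fo i = true := below_step fo 19140 638 19778 ou29 oc30 rfl
theorem oc31 : allBelow (fun k => fo (Nat.add 19778 k)) 638 = true := by decide +kernel
theorem ou31 : ∀ i, i < 20416 → fo i = true := below_step fo 19778 638 20416 ou30 oc31 rfl
theorem oc32 : allBelow (fun k => fo (Nat.add 20416 k)) 638 = true := by decide +kernel
theorem ou32 : ∀ i, i < 21054 → fo i = true := below_step fo 20416 638 21054 ou31 oc32 rfl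
theorem oc33 : allBelow (fun k => fo (Nat.add 21054 k)) 638 = true := by decide +kernel
theorem ou33 : ∀ i, i < 21692 → fo i = true := below_step fo 21054 638 21692 ou32 oc33 rfl
theorem oc34 : allBelow (fun k => fo (Nat.add 21692 k)) 638 = true := by decide +kernel
theorem ou34 : ∀ i, i < 22330 → fo i = true := below_step fo 21692 638 22330 ou33 oc34 rfl
theorem oc35 : allBelow (fun k => fo (Nat.add 22330 k)) 550 = true := by decide +kernel
theorem ou35 : ∀ i, i < 22880 → fo i = true := below_step fo 22330 550 22880 ou34 oc35 rfl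
theorem l0z : countBelow fl0 0 = 0 := rfl
theorem l0k0 : countBelow (fun k => fl0 (Nat.add 0 k)) 22880 = 1 := by decide +kernel
theorem l0n0 : countBelow fl0 22880 = 1 := countBelow_step fl0 0 22880 22880 0 1 1 l0z l0k0 rfl rfl
theorem l1z : countBelow fl1 0 = 0 := rfl
theorem l1k0 : countBelow (fun k => fl1 (Nat.add 0 k)) 22880 = 486 := by decide +kernel
theorem l1n0 : countBelow fl1 22880 = 486 := countBelow_step fl1 0 22880 22880 0 486 486 l1z l1k0 rfl rfl
theorem l2z : countBelow fl2 0 = 0 := rfl
theorem l2k0 : countBelow (fun k => fl2 (Nat.add 0 k)) 22880 = 8505 := by decide +kernel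
theorem l2n0 : countBelow fl2 22880 = 8505 := countBelow_step fl2 0 22880 22880 0 8505 8505 l2z l2k0 rfl rfl
theorem l3z : countBelow fl3 0 = 0 := rfl
theorem l3k0 : countBelow (fun k => fl3 (Nat.add 0 k)) 22880 = 13608 := by decide +kernel
theorem l3n0 : countBelow fl3 22880 = 13608 := countBelow_step fl3 0 22880 22880 0 13608 13608 l3z l3k0 rfl rfl
theorem l4z : countBelow fl4 0 = 0 := rfl
theorem l4k0 : countBelow (fun k => fl4 (Nat.add 0 k)) 22880 = 280 := by decide +kernel
theorem l4n0 : countBelow fl4 22880 = 280 := countBelow_step fl4 0 22880 22880 0 280 280 l4z l4k0 rfl rfl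

end Cfsg.Agent.Lib.Helper35.SuzOrd.X1
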